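import Mathlib

/-!
Positive involutions: the subalgebra generated by a symmetric element.
-/

set_option autoImplicit false
universe u

open Polynomial Matrix ComplexConjugate

namespace Groth.Agent.Rosati

section spectral

variable {n : Type*} [Fintype n] [DecidableEq n] (M : Matrix n n ℚ) (c : n → ℚ)

theorem exists_eigenvector {K : Type*} [Field K] [Algebra ℚ K] (p : ℚ[X]) (hp : p ∣ M.charpoly)
    (z : K) (hz : aeval z p = 0) :
    ∃ v : n → K, v ≠ 0 ∧ (M.map (algebraMap ℚ K)) *ᵥ v = z • v := by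
  obtain ⟨q, hq⟩ := hp
  have h1 : (M.map (algebraMap ℚ K)).charpoly.eval z = 0 := by
    rw [Matrix.charpoly_map, eval_map_algebraMap, hq, map_mul, hz, zero_mul]
  rw [Matrix.eval_charpoly] at h1
  obtain ⟨v, hv0, hv⟩ := Matrix.exists_mulVec_eq_zero_iff.2 h1
  refine ⟨v, hv0, ?_⟩
  rw [Matrix.sub_mulVec, sub_eq_zero, Matrix.scalar_apply] at hv
  rw [← hv]
  funext i
  simp [Matrix.mulVec_diagonal]

theorem im_eq_zero (hc : ∀ i, 0 < c i) (hsymm : ∀ i j, c i * M i j = c j * M j i)
    (p : ℚ[X]) (hp : p ∣ M.charpoly) (z : ℂ) (hz : aeval z p = 0) : z.im = 0 := by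
  obtain ⟨v, hv0, hv⟩ := exists_eigenvector M p hp z hz
  set S := ∑ i, ∑ j, ((c i : ℂ) * (M i j : ℂ)) * (conj (v i) * v j) with hS
  have h1 : S = z * ((∑ i, (c i : ℝ) * Complex.normSq (v i) : ℝ) : ℂ) := by
    have hvi : ∀ i, ∑ j, (M i j : ℂ) * v j = z * v i := fun i => by
      simpa [Matrix.mulVec, dotProduct] using congrFun hv i
    push_cast
    rw [hS, Finset.mul_sum]
    refine Finset.sum_congr rfl fun i _ => ?_
    calc _ = (c i : ℂ) * conj (v i) * ∑ j, (M i j : ℂ) * v j := by
          rw [Finset.mul_sum]; refine Finset.sum_congr rfl fun j _ => ?_; ring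
      _ = _ := by rw [hvi, Complex.normSq_eq_conj_mul_self]; ring
  have h2 : conj S = S := by
    rw [hS, map_sum]
    simp_rw [map_sum]
    rw [Finset.sum_comm]
    refine Finset.sum_congr rfl fun i _ => Finset.sum_congr rfl fun j _ => ?_
    have := hsymm i j
    simp only [map_mul, Complex.conj_conj, map_ratCast]
    have h' : (c i : ℂ) * (M i j : ℂ) = (c j : ℂ) * (M j i : ℂ) := by exact_mod_cast this
    rw [h']; ring
  obtain ⟨i, hi⟩ := Function.ne_iff.1 hv0
  have hpos : 0 < ∑ i, (c i : ℝ) * Complex.normSq (v i) :=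
    Finset.sum_pos' (fun j _ => mul_nonneg (by exact_mod_cast (hc j).le) (Complex.normSq_nonneg _))
      ⟨i, Finset.mem_univ _, mul_pos (by exact_mod_cast hc i) (Complex.normSq_pos.2 hi)⟩
  have h3 : S.im = 0 := Complex.conj_eq_iff_im.1 h2
  rw [h1, Complex.mul_im, Complex.ofReal_re, Complex.ofReal_im, mul_zero, zero_add] at h3
  exact (mul_eq_zero.1 h3).resolve_right hpos.ne'

theorem nonneg_root (hc : ∀ i, 0 < c i)
    (hpos : ∀ q : n → ℚ, 0 ≤ ∑ i, ∑ j, c i * M i j * (q i * q j))
    (p : ℚ[X]) (hp : p ∣ M.charpoly) (z : ℝ) (hz : aeval z p = 0) : 0 ≤ z := by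
  obtain ⟨v, hv0, hv⟩ := exists_eigenvector M p hp z hz
  set f : (n → ℝ) → ℝ := fun w => ∑ i, ∑ j, ((c i : ℝ) * (M i j : ℝ)) * (w i * w j) with hf
  have hfc : Continuous f := by rw [hf]; fun_prop
  have hd : DenseRange (Pi.map (fun _ : n => ((↑) : ℚ → ℝ))) :=
    DenseRange.piMap fun _ => Rat.denseRange_cast
  have hfv : 0 ≤ f v := by
    refine hd.induction_on (p := fun w => 0 ≤ f w) v (isClosed_le continuous_const hfc) fun q => ?_
    have := hpos q
    simp only [hf, Pi.map_apply]
    exact_mod_cast this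
  have h1 : f v = z * ∑ i, (c i : ℝ) * (v i * v i) := by
    have hvi : ∀ i, ∑ j, (M i j : ℝ) * v j = z * v i := fun i => by
      simpa [Matrix.mulVec, dotProduct] using congrFun hv i
    rw [hf, Finset.mul_sum]
    refine Finset.sum_congr rfl fun i _ => ?_
    calc _ = (c i : ℝ) * v i * ∑ j, (M i j : ℝ) * v j := by
          rw [Finset.mul_sum]; refine Finset.sum_congr rfl fun j _ => ?_; ring
      _ = _ := by rw [hvi]; ring
  obtain ⟨i, hi⟩ := Function.ne_iff.1 hv0
  have hp' : 0 < ∑ i, (c i : ℝ) * (v i * v i) :=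
    Finset.sum_pos' (fun j _ => mul_nonneg (by exact_mod_cast (hc j).le) (mul_self_nonneg _))
      ⟨i, Finset.mem_univ _, mul_pos (by exact_mod_cast hc i) (mul_self_pos.2 hi)⟩
  rw [h1] at hfv
  exact nonneg_of_mul_nonneg_left hfv hp'

end spectral

variable {R : Type u} [Ring R] [Algebra ℚ R] [StarRing R] [StarModule ℚ R]

theorem star_aeval {x : R} (hx : star x = x) (p : ℚ[X]) : star (aeval x p) = aeval x p := by
  induction p using Polynomial.induction_on' with
  | add p q hp hq => rw [map_add, star_add, hp, hq]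
  | monomial k a => rw [aeval_monomial, ← Algebra.smul_def, star_smul, star_trivial, star_pow, hx]

theorem star_of_mem_adjoin {x : R} (hx : star x = x) {y : R}
    (hy : y ∈ Algebra.adjoin ℚ ({x} : Set R)) : star y = y := by
  rw [Algebra.adjoin_singleton_eq_range_aeval] at hy
  obtain ⟨p, rfl⟩ := hy
  exact star_aeval hx p

omit [StarRing R] [StarModule ℚ R] in
theorem commute_of_mem_adjoin {x : R} {y z : R}
    (hy : y ∈ Algebra.adjoin ℚ ({x} : Set R)) (hz : z ∈ Algebra.adjoin ℚ ({x} : Set R)) :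
    Commute y z := by
  rw [Algebra.adjoin_singleton_eq_range_aeval] at hy hz
  obtain ⟨p, rfl⟩ := hy
  obtain ⟨q, rfl⟩ := hz
  show aeval x p * aeval x q = aeval x q * aeval x p
  rw [← map_mul, ← map_mul, mul_comm]

variable [Module.Finite ℚ R] (σ : R →ₗ[ℚ] ℚ) (hpos : ∀ x : R, x ≠ 0 → 0 < σ (x * star x))
  {x : R} (hx : star x = x)

omit [Module.Finite ℚ R] [StarModule ℚ R] in
include hpos in
theorem nonneg_mul_star (y : R) : 0 ≤ σ (y * star y) := by
  rcases eq_or_ne y 0 with rfl | hy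
  · simp
  · exact (hpos y hy).le

include hpos hx in
theorem separable : (minpoly ℚ x).Separable := by
  have hint : IsIntegral ℚ x := Algebra.IsIntegral.isIntegral x
  rw [PerfectField.separable_iff_squarefree]
  intro g ⟨h, hh⟩
  by_contra hu
  have hm0 : minpoly ℚ x ≠ 0 := minpoly.ne_zero hint
  have hg0 : g ≠ 0 := by rintro rfl; simp [hm0] at hh
  have hh0 : h ≠ 0 := by rintro rfl; simp [hm0] at hh
  have hdeg : (g * h).natDegree < (minpoly ℚ x).natDegree := by
    rw [hh, natDegree_mul (mul_ne_zero hg0 hg0) hh0, natDegree_mul hg0 hg0, natDegree_mul hg0 hh0]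
    have : 0 < g.natDegree := by
      by_contra h0
      exact hu (Polynomial.isUnit_iff_degree_eq_zero.2
        (by rw [degree_eq_natDegree hg0]; exact_mod_cast Nat.eq_zero_of_not_pos h0))
    omega
  have hy : aeval x (g * h) ≠ 0 := fun h0 =>
    absurd (natDegree_le_of_dvd (minpoly.dvd ℚ x h0) (mul_ne_zero hg0 hh0)) (not_le.2 hdeg)
  have := hpos _ hy
  rw [star_aeval hx, ← map_mul, show g * h * (g * h) = minpoly ℚ x * h by rw [hh]; ring, map_mul,
    minpoly.aeval, zero_mul, map_zero] at this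
  exact lt_irrefl _ this

include hpos hx in
theorem exists_matrix :
    ∃ (n : ℕ) (M : Matrix (Fin n) (Fin n) ℚ) (c : Fin n → ℚ),
      (∀ i, 0 < c i) ∧ (∀ i j, c i * M i j = c j * M j i) ∧ minpoly ℚ x ∣ M.charpoly ∧
      ((∀ y ∈ Algebra.adjoin ℚ ({x} : Set R), 0 ≤ σ (y * x * y)) →
        ∀ q : Fin n → ℚ, 0 ≤ ∑ i, ∑ j, c i * M i j * (q i * q j)) := by
  set A := Algebra.adjoin ℚ ({x} : Set R)
  let xA : A := ⟨x, Algebra.self_mem_adjoin_singleton ℚ x⟩
  let B : LinearMap.BilinForm ℚ A := LinearMap.mk₂ ℚ (fun a b : A => σ ((a : R) * b))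
    (by intros; simp [add_mul]) (by intros; simp [smul_mul_assoc])
    (by intros; simp [mul_add]) (by intros; simp [mul_smul_comm])
  have hB : ∀ a b : A, B a b = σ ((a : R) * b) := fun a b => rfl
  have hsym : LinearMap.IsSymm B := ⟨fun a b => by
    simp only [hB, RingHom.id_apply]; rw [(commute_of_mem_adjoin a.2 b.2).eq]⟩
  obtain ⟨b, hb⟩ := LinearMap.BilinForm.exists_orthogonal_basis hsym
  set M := Algebra.leftMulMatrix b xA with hM
  have hBM : ∀ i j, B (b i) (xA * b j) = B (b i) (b i) * M i j := by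
    intro i j
    conv_lhs => rw [← b.sum_repr (xA * b j)]
    rw [map_sum, Finset.sum_eq_single i]
    · rw [map_smul, smul_eq_mul, hM, Algebra.leftMulMatrix_eq_repr_mul, mul_comm]
    · intro k _ hk
      rw [map_smul, smul_eq_mul, LinearMap.isOrthoᵢ_def.1 hb i k (Ne.symm hk), mul_zero]
    · simp
  refine ⟨_, M, fun i => B (b i) (b i), fun i => ?_, fun i j => ?_, ?_, fun h q => ?_⟩
  · have hne : ((b i : A) : R) ≠ 0 := by
      simpa using b.ne_zero i
    have := hpos _ hne
    rwa [star_of_mem_adjoin hx (b i).2] at this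
  · simp only
    rw [← hBM, ← hBM, hB, hB]
    congr 1
    show ((b i : A) : R) * (x * (b j : A)) = (b j : A) * (x * (b i : A))
    have c1 := (commute_of_mem_adjoin (b i).2 (b j).2).eq
    have c2 := (commute_of_mem_adjoin (b i).2 xA.2).eq
    have c3 := (commute_of_mem_adjoin (b j).2 xA.2).eq
    simp only [xA] at c2 c3
    rw [← mul_assoc, c2, mul_assoc, c1, ← mul_assoc, ← c3, mul_assoc]
  · have h1 : minpoly ℚ x = minpoly ℚ M := by
      rw [hM, minpoly.algHom_eq _ (Algebra.leftMulMatrix_injective b),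
        ← minpoly.algHom_eq A.val Subtype.val_injective xA]
      rfl
    rw [h1]
    exact Matrix.minpoly_dvd_charpoly M
  · have := h (∑ i, q i • b i : A) (SetLike.coe_mem _)
    have e : σ ((∑ i, q i • b i : A) * x * (∑ i, q i • b i : A)) =
        B (∑ i, q i • b i) (xA * ∑ j, q j • b j) := by
      rw [hB, mul_assoc]; rfl
    rw [e] at this
    rw [Finset.mul_sum] at this
    simp only [map_sum, LinearMap.sum_apply, mul_smul_comm, map_smul, LinearMap.smul_apply,
      smul_eq_mul, hBM] at this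
    refine this.trans (le_of_eq ?_)
    rw [Finset.sum_comm]
    simp only [Finset.mul_sum]
    exact Finset.sum_congr rfl fun i _ => Finset.sum_congr rfl fun j _ => by ring

include hpos hx in
theorem real_roots (z : ℂ) (hz : aeval z (minpoly ℚ x) = 0) : z.im = 0 := by
  obtain ⟨n, M, c, hc, hs, hd, -⟩ := exists_matrix σ hpos hx
  exact im_eq_zero M c hc hs _ hd z hz

include hpos hx in
theorem roots_nonneg (h : ∀ y ∈ Algebra.adjoin ℚ ({x} : Set R), 0 ≤ σ (y * x * y))
    (z : ℝ) (hz : aeval z (minpoly ℚ x) = 0) : 0 ≤ z := by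
  obtain ⟨n, M, c, hc, hs, hd, hq⟩ := exists_matrix σ hpos hx
  exact nonneg_root M c hc (hq h) _ hd z hz

end Groth.Agent.Rosati
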